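import Mathlib
import Cfsg.Agent.Nodes.WittRGD
import Cfsg.Agent.H162.GaussReg
import Cfsg.Agent.H162.GaussMain
import Cfsg.Agent.Nodes.WittRGDD
set_option linter.all false

-- part: H156/SqPhi
section
/-!
The homomorphism `GL_k(F) →* GL(V)` of a Witt frame for a bilinear form (`σ = 1`) and an injection
`ι : Fin k → Fin n` (for S2523, tasks 268-270).

* `Phi Fr ι hι : GL (Fin k) F →* (V ≃ₗ[F] V)` : `A` on the `e_{ι i}`, the transposed inverse on the `f_{ι i}`, the
  identity on the rest of the frame and on `V0`;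
* `Phi_transvection` : transvections go to the root elements `X (ι i, true) (ι j, false) t`;
* `isIso_Phi`, `conj_diag`, `conj_swap`.
-/

set_option autoImplicit false

namespace Cfsg.Agent.H156.SqPhi

open Matrix
open Cfsg.Agent.TitsThree.Siegel Cfsg.Agent.TitsThree.WittFrame Cfsg.Agent.TitsThree.WittWeyl
open Cfsg.Agent.H162.GaussSL Cfsg.Agent.H162.GaussReg

variable {F : Type*} [Field F] {V : Type*} [AddCommGroup V] [Module F V] {H : HForm F V} {n k : ℕ}
  (Fr : Frame H (Fin n)) (ι : Fin k → Fin n)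

/-- the coordinates on the `e_{ι i}` -/
def cT : V →ₗ[F] (Fin k → F) where
  toFun v i := H.h v (Fr.b (ι i, false))
  map_add' v w := by funext i; exact H.add_left _ _ _
  map_smul' c v := by funext i; exact H.smul_left _ _ _

/-- the coordinates on the `f_{ι i}` -/
def cF : V →ₗ[F] (Fin k → F) where
  toFun v i := H.ε⁻¹ * H.h v (Fr.b (ι i, true))
  map_add' v w := by funext i; simp only [Pi.add_apply]; rw [H.add_left, mul_add]
  map_smul' c v := by
    funext i
    simp only [Pi.smul_apply, smul_eq_mul, RingHom.id_apply]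
    rw [H.smul_left]; ring

/-- the combinations of the `e_{ι i}` -/
def eT : (Fin k → F) →ₗ[F] V := Fintype.linearCombination F fun i => Fr.b (ι i, true)

/-- the combinations of the `f_{ι i}` -/
def eF : (Fin k → F) →ₗ[F] V := Fintype.linearCombination F fun i => Fr.b (ι i, false)

theorem cT_apply (v : V) (i : Fin k) : cT Fr ι v i = H.h v (Fr.b (ι i, false)) := rfl
theorem cF_apply (v : V) (i : Fin k) : cF Fr ι v i = H.ε⁻¹ * H.h v (Fr.b (ι i, true)) := rfl
theorem eT_apply (x : Fin k → F) : eT Fr ι x = ∑ i, x i • Fr.b (ι i, true) := rfl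
theorem eF_apply (x : Fin k → F) : eF Fr ι x = ∑ i, x i • Fr.b (ι i, false) := rfl

theorem h_sum_left {α : Type*} (s : Finset α) (f : α → V) (w : V) :
    H.h (∑ a ∈ s, f a) w = ∑ a ∈ s, H.h (f a) w := by
  classical
  induction s using Finset.induction_on with
  | empty => simp [H.zero_left]
  | insert a s ha ih => rw [Finset.sum_insert ha, Finset.sum_insert ha, H.add_left, ih]

theorem h_sum_right {α : Type*} (s : Finset α) (f : α → V) (w : V) :
    H.h w (∑ a ∈ s, f a) = ∑ a ∈ s, H.h w (f a) := by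
  classical
  induction s using Finset.induction_on with
  | empty => simp [H.zero_right]
  | insert a s ha ih => rw [Finset.sum_insert ha, Finset.sum_insert ha, H.add_right, ih]

theorem hb_tt (i j : Fin n) : H.h (Fr.b (i, true)) (Fr.b (j, true)) = 0 := by rw [Fr.hb]; simp
theorem hb_ff (i j : Fin n) : H.h (Fr.b (i, false)) (Fr.b (j, false)) = 0 := by rw [Fr.hb]; simp
theorem hb_tf (i j : Fin n) : H.h (Fr.b (i, true)) (Fr.b (j, false)) = if i = j then 1 else 0 := by rw [Fr.hb]; simp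
theorem hb_ft (i j : Fin n) : H.h (Fr.b (i, false)) (Fr.b (j, true)) = if i = j then H.ε else 0 := by
  rw [Fr.hb]; simp

variable {ι} (hι : Function.Injective ι)

include hι in
theorem cT_eT (x : Fin k → F) : cT Fr ι (eT Fr ι x) = x := by
  funext i
  rw [cT_apply, eT_apply, h_sum_left, Finset.sum_eq_single i]
  · rw [H.smul_left, hb_tf, if_pos rfl, mul_one]
  · intro j _ hj
    rw [H.smul_left, hb_tf, if_neg (fun h => hj (hι h)), mul_zero]
  · intro h; exact absurd (Finset.mem_univ _) h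

theorem cT_eF (x : Fin k → F) : cT Fr ι (eF Fr ι x) = 0 := by
  funext i
  rw [cT_apply, eF_apply, h_sum_left]
  exact Finset.sum_eq_zero fun j _ => by rw [H.smul_left, hb_ff, mul_zero]

theorem cF_eT (x : Fin k → F) : cF Fr ι (eT Fr ι x) = 0 := by
  funext i
  rw [cF_apply, eT_apply, h_sum_left, Finset.sum_eq_zero fun j _ => by rw [H.smul_left, hb_tt, mul_zero]]
  exact mul_zero _

include hι in
theorem cF_eF (x : Fin k → F) : cF Fr ι (eF Fr ι x) = x := by
  funext i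
  rw [cF_apply, eF_apply, h_sum_left, Finset.sum_eq_single i]
  · rw [H.smul_left, hb_ft, if_pos rfl]
    have := H.ε_ne
    field_simp
  · intro j _ hj
    rw [H.smul_left, hb_ft, if_neg (fun h => hj (hι h)), mul_zero]
  · intro h; exact absurd (Finset.mem_univ _) h

variable (ι)

/-- the linear map with the matrices `A` on the `e`, `B` on the `f` -/
def LM (A B : Matrix (Fin k) (Fin k) F) : V →ₗ[F] V :=
  LinearMap.id + (eT Fr ι).comp ((A - 1).mulVecLin.comp (cT Fr ι)) + (eF Fr ι).comp ((B - 1).mulVecLin.comp (cF Fr ι))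

theorem LM_apply (A B : Matrix (Fin k) (Fin k) F) (v : V) :
    LM Fr ι A B v = v + eT Fr ι ((A - 1) *ᵥ cT Fr ι v) + eF Fr ι ((B - 1) *ᵥ cF Fr ι v) := rfl

variable {ι}

include hι in
theorem cT_LM (A B : Matrix (Fin k) (Fin k) F) (v : V) : cT Fr ι (LM Fr ι A B v) = A *ᵥ cT Fr ι v := by
  rw [LM_apply, map_add, map_add, cT_eT Fr hι, cT_eF, add_zero, sub_mulVec, one_mulVec]
  abel

include hι in
theorem cF_LM (A B : Matrix (Fin k) (Fin k) F) (v : V) : cF Fr ι (LM Fr ι A B v) = B *ᵥ cF Fr ι v := by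
  rw [LM_apply, map_add, map_add, cF_eF Fr hι, cF_eT, add_zero, sub_mulVec, one_mulVec]
  abel

include hι in
theorem LM_mul (A B A' B' : Matrix (Fin k) (Fin k) F) (v : V) :
    LM Fr ι A B (LM Fr ι A' B' v) = LM Fr ι (A * A') (B * B') v := by
  rw [LM_apply Fr ι A B, cT_LM Fr hι, cF_LM Fr hι, LM_apply Fr ι A' B', LM_apply Fr ι (A * A') (B * B')]
  have h1 : (A - 1) *ᵥ (A' *ᵥ cT Fr ι v) = (A * A' - 1) *ᵥ cT Fr ι v - (A' - 1) *ᵥ cT Fr ι v := by
    rw [mulVec_mulVec, ← sub_mulVec]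
    congr 1
    noncomm_ring
  have h2 : (B - 1) *ᵥ (B' *ᵥ cF Fr ι v) = (B * B' - 1) *ᵥ cF Fr ι v - (B' - 1) *ᵥ cF Fr ι v := by
    rw [mulVec_mulVec, ← sub_mulVec]
    congr 1
    noncomm_ring
  rw [h1, h2, map_sub, map_sub]
  abel

/-- the homomorphism to the endomorphisms -/
def PhiEnd : GL (Fin k) F →* Module.End F V where
  toFun A := LM Fr ι A.1 (A⁻¹).1ᵀ
  map_one' := by
    ext v
    rw [LM_apply]
    simp
  map_mul' A B := by
    ext v
    rw [Module.End.mul_apply, LM_mul Fr hι, ← transpose_mul, _root_.mul_inv_rev]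
    rfl

/-- the homomorphism `GL_k(F) →* GL(V)` -/
def Phi : GL (Fin k) F →* (V ≃ₗ[F] V) :=
  (LinearMap.GeneralLinearGroup.generalLinearEquiv F V).toMonoidHom.comp (PhiEnd Fr hι).toHomUnits

theorem Phi_apply (A : GL (Fin k) F) (v : V) :
    Phi Fr hι A v = v + eT Fr ι ((A.1 - 1) *ᵥ cT Fr ι v) + eF Fr ι (((A⁻¹).1ᵀ - 1) *ᵥ cF Fr ι v) := rfl

theorem Phi_V0 (A : GL (Fin k) F) {w : V} (hw : w ∈ Fr.V0) : Phi Fr hι A w = w := by
  have h1 : cT Fr ι w = 0 := by funext i; exact Fr.h0' _ hw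
  have h2 : cF Fr ι w = 0 := by funext i; rw [cF_apply, Fr.h0' _ hw, mul_zero]; rfl
  rw [Phi_apply, h1, h2, mulVec_zero, mulVec_zero, map_zero, map_zero, add_zero, add_zero]


/-! ### Pairings -/

section Sigma

variable (hσ : ∀ c, H.σ c = c)

include hσ

theorem eps_sq : H.ε * H.ε = 1 := by
  have := H.ε_mul
  rwa [hσ] at this

theorem eps_inv : H.ε⁻¹ = H.ε := inv_eq_of_mul_eq_one_left (eps_sq hσ)

theorem h_eT (v : V) (x : Fin k → F) : H.h v (eT Fr ι x) = H.ε * (x ⬝ᵥ cF Fr ι v) := by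
  rw [eT_apply, h_sum_right, dotProduct, Finset.mul_sum]
  refine Finset.sum_congr rfl fun i _ => ?_
  rw [H.smul_right, hσ, cF_apply]
  have := H.ε_ne
  field_simp

theorem h_eF (v : V) (x : Fin k → F) : H.h v (eF Fr ι x) = x ⬝ᵥ cT Fr ι v := by
  rw [eF_apply, h_sum_right, dotProduct]
  refine Finset.sum_congr rfl fun i _ => ?_
  rw [H.smul_right, hσ, cT_apply]

theorem eT_h (x : Fin k → F) (w : V) : H.h (eT Fr ι x) w = x ⬝ᵥ cF Fr ι w := by
  rw [H.swap, hσ, h_eT Fr hσ, ← mul_assoc, eps_sq hσ, one_mul]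

theorem eF_h (x : Fin k → F) (w : V) : H.h (eF Fr ι x) w = H.ε * (x ⬝ᵥ cT Fr ι w) := by
  rw [H.swap, hσ, h_eF Fr hσ]

omit hσ in
theorem dot_aux {A B : Matrix (Fin k) (Fin k) F} (hAB : Aᵀ * B = 1) (a b : Fin k → F) :
    ((A - 1) *ᵥ a) ⬝ᵥ b + a ⬝ᵥ ((B - 1) *ᵥ b) + ((A - 1) *ᵥ a) ⬝ᵥ ((B - 1) *ᵥ b) = 0 := by
  have h1 : (A *ᵥ a) ⬝ᵥ (B *ᵥ b) = a ⬝ᵥ b := by
    rw [dotProduct_mulVec, ← vecMul_transpose, vecMul_vecMul, hAB, vecMul_one]
  simp only [sub_mulVec, one_mulVec, sub_dotProduct, dotProduct_sub, h1]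
  ring

/-- isometry -/
theorem isIso_Phi (A : GL (Fin k) F) : H.IsIso (Phi Fr hι A) := by
  intro v w
  rw [Phi_apply, Phi_apply]
  have hAB : A.1ᵀ * (A⁻¹).1ᵀ = 1 := by
    rw [← transpose_mul, ← Units.val_mul, inv_mul_cancel, Units.val_one, transpose_one]
  simp only [H.add_left, H.add_right, h_eT Fr hσ, h_eF Fr hσ, eT_h Fr hσ, eF_h Fr hσ, cT_eT Fr hι, cT_eF, cF_eT,
    cF_eF Fr hι, dotProduct_zero, mul_zero, add_zero]
  have h1 := dot_aux hAB (cT Fr ι v) (cF Fr ι w)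
  have h2 := dot_aux hAB (cT Fr ι w) (cF Fr ι v)
  rw [dotProduct_comm (cT Fr ι v),
    dotProduct_comm ((A.1 - 1) *ᵥ cT Fr ι v) ((((A⁻¹).1ᵀ - 1) *ᵥ cF Fr ι w))] at h1
  rw [dotProduct_comm (cT Fr ι w)] at h2
  linear_combination h1 + H.ε * h2

/-- transvections go to root elements -/
theorem Phi_transvection {i j : Fin k} (hij : i ≠ j) (c : F) :
    Phi Fr hι (SpecialLinearGroup.transvection hij c : GL (Fin k) F) = Fr.X (ι i, true) (ι j, false) c := by
  have hne : ((ι i, true) : Fin n × Bool).1 ≠ ((ι j, false) : Fin n × Bool).1 := fun h => hij (hι h)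
  ext v
  rw [X_apply Fr hne, Phi_apply]
  have h1 : ((SpecialLinearGroup.transvection hij c : GL (Fin k) F)).1 - 1 = single i j c := by
    change (1 + single i j c) - 1 = _
    rw [add_sub_cancel_left]
  have h2 : ((SpecialLinearGroup.transvection hij c : GL (Fin k) F)⁻¹).1 = 1 + single i j (-c) := by
    refine Units.inv_eq_of_mul_eq_one_right ?_
    exact (transvection_mul_transvection_same i j hij c (-c)).trans (by rw [add_neg_cancel, transvection_zero])
  rw [h1, h2, transpose_add, transpose_one, add_sub_cancel_left, transpose_single, single_mulVec, single_mulVec]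
  have h3 : ∀ (i : Fin k) (a : F), eT Fr ι (Pi.single i a) = a • Fr.b (ι i, true) := by
    intro i a
    rw [eT, Fintype.linearCombination_apply_single]
  have h4 : ∀ (i : Fin k) (a : F), eF Fr ι (Pi.single i a) = a • Fr.b (ι i, false) := by
    intro i a
    rw [eF, Fintype.linearCombination_apply_single]
  have e1 : Fr.η (ι j, false) = 1 := rfl
  have e2 := eps_inv hσ
  have e3 := eps_sq hσ
  rw [← Pi.single, ← Pi.single, h3, h4, cT_apply, cF_apply, hσ, Frame.sc, e1, hσ, e2]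
  have e4 : -(H.ε * -(H.ε * 1 * c) * H.h v (Fr.b (ι j, false))) = c * H.h v (Fr.b (ι j, false)) := by
    linear_combination (c * H.h v (Fr.b (ι j, false))) * e3
  rw [sub_eq_add_neg, ← neg_smul, e4]
  have e5 : H.h v (Fr.b (ι i, true)) * -(H.ε * 1 * c) = -c * (H.ε * H.h v (Fr.b (ι i, true))) := by ring
  rw [e5]
  abel

/-! ### Conjugation -/

omit hσ in
/-- diagonal matrices -/
def DD (l : Fin k → Fˣ) : GL (Fin k) F where
  val := diagonal fun i => (l i : F)
  inv := diagonal fun i => ((l i)⁻¹ : Fˣ)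
  val_inv := by rw [diagonal_mul_diagonal, ← diagonal_one]; congr 1; funext i; exact (l i).mul_inv
  inv_val := by rw [diagonal_mul_diagonal, ← diagonal_one]; congr 1; funext i; exact (l i).inv_mul

omit hσ in
theorem g_eT {g : V ≃ₗ[F] V} {l : Fin k → F} {b : Fin k → V} (h : ∀ i, g (Fr.b (ι i, true)) = l i • b i)
    (x : Fin k → F) : g (eT Fr ι x) = Fintype.linearCombination F b (diagonal l *ᵥ x) := by
  rw [eT_apply, map_sum, Fintype.linearCombination_apply]
  refine Finset.sum_congr rfl fun i _ => ?_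
  rw [map_smul, h, smul_smul, mulVec_diagonal, mul_comm]

omit hσ in
theorem g_eF {g : V ≃ₗ[F] V} {l : Fin k → F} {b : Fin k → V} (h : ∀ i, g (Fr.b (ι i, false)) = l i • b i)
    (x : Fin k → F) : g (eF Fr ι x) = Fintype.linearCombination F b (diagonal l *ᵥ x) := by
  rw [eF_apply, map_sum, Fintype.linearCombination_apply]
  refine Finset.sum_congr rfl fun i _ => ?_
  rw [map_smul, h, smul_smul, mulVec_diagonal, mul_comm]

omit hσ in
theorem h_inv {g : V ≃ₗ[F] V} (hg : H.IsIso g) (v w : V) : H.h (g⁻¹ v) w = H.h v (g w) := by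
  have := hg (g⁻¹ v) w
  rw [← this]
  congr 1
  exact g.apply_symm_apply v

/-- conjugation by diagonal isometries -/
theorem conj_diag {g : V ≃ₗ[F] V} (hg : H.IsIso g) (l : Fin k → Fˣ)
    (ht : ∀ i, g (Fr.b (ι i, true)) = (l i : F) • Fr.b (ι i, true))
    (hf : ∀ i, g (Fr.b (ι i, false)) = ((l i)⁻¹ : Fˣ) • Fr.b (ι i, false)) (A : GL (Fin k) F) :
    g * Phi Fr hι A * g⁻¹ = Phi Fr hι (DD l * A * (DD l)⁻¹) := by
  have hT : ∀ v, cT Fr ι (g⁻¹ v) = diagonal (fun i => (((l i)⁻¹ : Fˣ) : F)) *ᵥ cT Fr ι v := by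
    intro v
    funext i
    rw [cT_apply, h_inv hg, hf, mulVec_diagonal, Units.smul_def, H.smul_right, hσ, cT_apply]
  have hF : ∀ v, cF Fr ι (g⁻¹ v) = diagonal (fun i => (l i : F)) *ᵥ cF Fr ι v := by
    intro v
    funext i
    rw [cF_apply, h_inv hg, ht, mulVec_diagonal, H.smul_right, hσ, cF_apply]
    ring
  ext v
  change g (Phi Fr hι A (g⁻¹ v)) = _
  rw [Phi_apply, Phi_apply, map_add, map_add, hT, hF, g_eT Fr ht, g_eF Fr (l := fun i => ((l i)⁻¹ : Fˣ)) hf]
  have h1 : g (g⁻¹ v) = v := g.apply_symm_apply v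
  have e0 : (DD l).1 = diagonal (fun i => (l i : F)) := rfl
  have e1 : ((DD l)⁻¹).1 = diagonal (fun i => (((l i)⁻¹ : Fˣ) : F)) := rfl
  have e2 : ((DD l * A * (DD l)⁻¹)⁻¹).1 = (DD l).1 * (A⁻¹).1 * ((DD l)⁻¹).1 := by
    rw [_root_.mul_inv_rev, _root_.mul_inv_rev, inv_inv, ← mul_assoc]
    rfl
  have e3 : (DD l * A * (DD l)⁻¹).1 = (DD l).1 * A.1 * ((DD l)⁻¹).1 := rfl
  have e4 : (DD l).1 * ((DD l)⁻¹).1 = 1 := by rw [← Units.val_mul, mul_inv_cancel, Units.val_one]
  have e5 : ((DD l)⁻¹).1 * (DD l).1 = 1 := by rw [← Units.val_mul, inv_mul_cancel, Units.val_one]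
  rw [h1, e2, e3]
  rw [← e0, ← e1]
  congr 1
  · congr 1
    change eT Fr ι _ = _
    congr 1
    rw [mulVec_mulVec, mulVec_mulVec]
    congr 1
    rw [mul_sub, mul_one, sub_mul, e4]
  · change eF Fr ι _ = _
    congr 1
    have e6 : ((DD l).1)ᵀ = (DD l).1 := by rw [e0, diagonal_transpose]
    have e7 : (((DD l)⁻¹).1)ᵀ = ((DD l)⁻¹).1 := by rw [e1, diagonal_transpose]
    rw [mulVec_mulVec, mulVec_mulVec]
    congr 1
    rw [transpose_mul, transpose_mul, e6, e7, mul_sub, mul_one, sub_mul, e5, mul_assoc]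

omit hσ in
/-- the transposed inverse -/
def ti (A : GL (Fin k) F) : GL (Fin k) F where
  val := (A⁻¹).1ᵀ
  inv := A.1ᵀ
  val_inv := by rw [← transpose_mul, ← Units.val_mul, mul_inv_cancel, Units.val_one, transpose_one]
  inv_val := by rw [← transpose_mul, ← Units.val_mul, inv_mul_cancel, Units.val_one, transpose_one]

/-- conjugation by isometries exchanging the `e_{ι i}` and the `f_{ι i}` -/
theorem conj_swap {g : V ≃ₗ[F] V} (hg : H.IsIso g) (l : Fin k → Fˣ)
    (ht : ∀ i, g (Fr.b (ι i, true)) = (l i : F) • Fr.b (ι i, false))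
    (hf : ∀ i, g (Fr.b (ι i, false)) = (H.ε * ((l i)⁻¹ : Fˣ)) • Fr.b (ι i, true)) (A : GL (Fin k) F) :
    g * Phi Fr hι A * g⁻¹ = Phi Fr hι ((DD l)⁻¹ * ti A * DD l) := by
  have hε := eps_sq hσ
  have hε' := eps_inv hσ
  have hT : ∀ v, cT Fr ι (g⁻¹ v) = diagonal (fun i => (((l i)⁻¹ : Fˣ) : F)) *ᵥ cF Fr ι v := by
    intro v
    funext i
    rw [cT_apply, h_inv hg, hf, mulVec_diagonal, H.smul_right, hσ, cF_apply, hε']
    ring
  have hF : ∀ v, cF Fr ι (g⁻¹ v) = diagonal (fun i => H.ε * (l i : F)) *ᵥ cT Fr ι v := by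
    intro v
    funext i
    rw [cF_apply, h_inv hg, ht, mulVec_diagonal, H.smul_right, hσ, cT_apply, hε']
    ring
  ext v
  change g (Phi Fr hι A (g⁻¹ v)) = _
  rw [Phi_apply, Phi_apply, map_add, map_add, hT, hF, g_eT Fr ht, g_eF Fr hf]
  have h1 : g (g⁻¹ v) = v := g.apply_symm_apply v
  have e0 : (DD l).1 = diagonal (fun i => (l i : F)) := rfl
  have e1 : ((DD l)⁻¹).1 = diagonal (fun i => (((l i)⁻¹ : Fˣ) : F)) := rfl
  have e2 : (((DD l)⁻¹ * ti A * (DD l))⁻¹).1 = ((DD l)⁻¹).1 * A.1ᵀ * (DD l).1 := by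
    rw [_root_.mul_inv_rev, _root_.mul_inv_rev, inv_inv, ← mul_assoc]
    rfl
  have e3 : ((DD l)⁻¹ * ti A * DD l).1 = ((DD l)⁻¹).1 * (A⁻¹).1ᵀ * (DD l).1 := rfl
  have e4 : (DD l).1 * ((DD l)⁻¹).1 = 1 := by rw [← Units.val_mul, mul_inv_cancel, Units.val_one]
  have e5 : ((DD l)⁻¹).1 * (DD l).1 = 1 := by rw [← Units.val_mul, inv_mul_cancel, Units.val_one]
  have e6 : ((DD l).1)ᵀ = (DD l).1 := by rw [e0, diagonal_transpose]
  have e7 : (((DD l)⁻¹).1)ᵀ = ((DD l)⁻¹).1 := by rw [e1, diagonal_transpose]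
  have e8 : diagonal (fun i => H.ε * (((l i)⁻¹ : Fˣ) : F)) = H.ε • ((DD l)⁻¹).1 := by
    rw [e1, ← diagonal_smul]; rfl
  have e9 : diagonal (fun i => H.ε * (l i : F)) = H.ε • (DD l).1 := by
    rw [e0, ← diagonal_smul]; rfl
  rw [h1, e2, e3, e8, e9, ← e0, ← e1, add_assoc, add_assoc]
  congr 1
  rw [add_comm]
  congr 1
  · change eT Fr ι _ = _
    congr 1
    rw [mulVec_mulVec, mulVec_mulVec]
    congr 1
    rw [Matrix.smul_mul, Matrix.mul_smul, Matrix.smul_mul, smul_smul, hε, one_smul, mul_sub, mul_one, sub_mul, e5]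
  · change eF Fr ι _ = _
    congr 1
    rw [mulVec_mulVec, mulVec_mulVec]
    congr 1
    rw [transpose_mul, transpose_mul, e6, e7, transpose_transpose, mul_sub, mul_one, sub_mul, e4, mul_assoc]

end Sigma

end Cfsg.Agent.H156.SqPhi
end

-- part: H156/SqBlk
section
/-!
The block datum `GaussMain.Blk` of a Witt frame (for S2523, tasks 268-270).
-/

set_option autoImplicit false
set_option linter.unusedSectionVars false

namespace Cfsg.Agent.H156.SqBlk

open Matrix
open CoxeterSystem Cfsg.Agent.ChevalleyStructure.CoxeterGeom Cfsg.Agent.Tits.Roots Cfsg.Agent.Tits.Core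
  Cfsg.Agent.Nodes.Reps Cfsg.Agent.Nodes.BNOf Cfsg.Agent.Nodes.StabComb
  Cfsg.Agent.Nodes.RGDLib Cfsg.Agent.Nodes.Bruhat Cfsg.Agent.Nodes.OppDec Cfsg.Agent.Nodes.LeviDec
open Cfsg.Agent.Nodes
open Cfsg.Agent.TitsThree.Siegel Cfsg.Agent.TitsThree.WittFrame Cfsg.Agent.TitsThree.WittWeyl
open Cfsg.Agent.Nodes.WittRoot (XG)
open Cfsg.Agent.Nodes.WittRGD (Tor)
open Cfsg.Agent.H162.GaussSL Cfsg.Agent.H162.GaussReg Cfsg.Agent.H162.GaussLevi Cfsg.Agent.H162.GaussMain
open Cfsg.Agent.H156.SqPhi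

variable {F : Type*} [Field F] {V : Type*} [AddCommGroup V] [Module F V] {H : HForm F V} {N k : ℕ}
  {Fr : Frame H (Fin N)} {G0 : Subgroup (V ≃ₗ[F] V)}

theorem Phi_mem {ι : Fin k → Fin N} (hι : Function.Injective ι) (hσ : ∀ c, H.σ c = c)
    (hX : ∀ a b t, Fr.X a b t ∈ G0) (A : SpecialLinearGroup (Fin k) F) :
    Phi Fr hι (SpecialLinearGroup.toGL A) ∈ G0 := by
  have h1 : (⊤ : Subgroup (SpecialLinearGroup (Fin k) F)) ≤ G0.comap ((Phi Fr hι).comp SpecialLinearGroup.toGL) := by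
    rw [← Cfsg.Agent.LieClassical.SLGen.closure_transvections, Subgroup.closure_le]
    rintro _ ⟨i, j, hij, c, rfl⟩
    change Phi Fr hι (SpecialLinearGroup.transvection hij c : GL (Fin k) F) ∈ G0
    rw [Phi_transvection Fr hι hσ]
    exact hX _ _ _
  exact h1 (Subgroup.mem_top A)

/-- the homomorphism `SL_k(F) →* G0` -/
def phi {ι : Fin k → Fin N} (hι : Function.Injective ι) (hσ : ∀ c, H.σ c = c)
    (hX : ∀ a b t, Fr.X a b t ∈ G0) : SpecialLinearGroup (Fin k) F →* ↥G0 :=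
  ((Phi Fr hι).comp SpecialLinearGroup.toGL).codRestrict G0 (Phi_mem hι hσ hX)

theorem coe_phi {ι : Fin k → Fin N} (hι : Function.Injective ι) (hσ : ∀ c, H.σ c = c)
    (hX : ∀ a b t, Fr.X a b t ∈ G0) (A : SpecialLinearGroup (Fin k) F) :
    ((phi hι hσ hX A : ↥G0) : V ≃ₗ[F] V) = Phi Fr hι (A : GL (Fin k) F) := rfl

theorem phi_transvection {ι : Fin k → Fin N} (hι : Function.Injective ι) (hσ : ∀ c, H.σ c = c)
    (hX : ∀ a b t, Fr.X a b t ∈ G0) {i j : Fin k} (hij : i ≠ j) (c : F) :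
    ((phi hι hσ hX (SpecialLinearGroup.transvection hij c) : ↥G0) : V ≃ₗ[F] V) = Fr.X (ι i, true) (ι j, false) c := by
  rw [coe_phi, Phi_transvection Fr hι hσ]

theorem transvection_mem_UT {i j : Fin k} (hij : i < j) (c : F) :
    SpecialLinearGroup.transvection hij.ne c ∈ UT k F := by
  rw [mem_UT]
  refine ⟨fun a b hab => ?_, fun a => ?_⟩
  · change ((1 : Matrix (Fin k) (Fin k) F) + single i j c) a b = 0
    rw [Matrix.add_apply, one_apply_ne hab.ne', single_apply, if_neg, add_zero]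
    rintro ⟨rfl, rfl⟩
    exact absurd hab hij.not_gt
  · change ((1 : Matrix (Fin k) (Fin k) F) + single i j c) a a = 1
    rw [Matrix.add_apply, one_apply_eq, single_apply, if_neg, add_zero]
    rintro ⟨rfl, h⟩
    exact hij.ne h.symm

theorem transvection_mem_LT {i j : Fin k} (hij : i < j) (c : F) :
    SpecialLinearGroup.transvection hij.ne' c ∈ LT k F := by
  rw [mem_LT]
  refine ⟨fun a b hab => ?_, fun a => ?_⟩
  · change ((1 : Matrix (Fin k) (Fin k) F) + single j i c) a b = 0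
    rw [Matrix.add_apply, one_apply_ne hab.ne, single_apply, if_neg, add_zero]
    rintro ⟨rfl, rfl⟩
    exact absurd hab hij.not_gt
  · change ((1 : Matrix (Fin k) (Fin k) F) + single j i c) a a = 1
    rw [Matrix.add_apply, one_apply_eq, single_apply, if_neg, add_zero]
    rintro ⟨rfl, h⟩
    exact hij.ne h

theorem DD_eq_dd (d : Fˣ) : DD (fun i : Fin (k + 1) => if i = 0 then d else 1) = dd k d := by
  apply Units.ext
  change diagonal _ = diagonal _
  congr 1
  funext i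
  by_cases h : i = 0 <;> simp [h]

theorem ti_coe (A : SpecialLinearGroup (Fin k) F) : ti (A : GL (Fin k) F) = ((tr A)⁻¹ : SpecialLinearGroup (Fin k) F) := by
  rw [← tr_inv]
  apply Units.ext
  rfl

variable {W : Type*} [Group W] {M : CoxeterMatrix (Fin N)}
  {cs : CoxeterSystem M W} {A : Fin N → Fin N → ℤ} {h : IsCartan M A} {rg : (Fin N → ℤ) → Subgroup (V ≃ₗ[F] V)}

/-- **The block datum of a Witt frame.** -/
theorem blk {ι : Fin (k + 2) → Fin N} (hι : Function.Injective ι) (hσ : ∀ c, H.σ c = c) {J : Set (Fin N)}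
    (hX : ∀ a b t, Fr.X a b t ∈ G0) (hiso : ∀ g ∈ G0, H.IsIso g)
    (hJ1 : ∀ i j : Fin (k + 2), i ≠ j → ∃ r ∈ RootsJ cs h J, rg r = XG Fr (ι i, true) (ι j, false))
    (hJ2 : ∀ r ∈ PosJ cs h J, ∃ i j : Fin (k + 2), i < j ∧ rg r = XG Fr (ι i, true) (ι j, false) ∧
      rg (-r) = XG Fr (ι j, true) (ι i, false))
    {s : V ≃ₗ[F] V} (hs : s ∈ G0) {a : Fˣ}
    (hst : ∀ i : Fin (k + 2), s (Fr.b (ι i, true)) = (a : F) • Fr.b (ι i, true))
    (hsf : ∀ i : Fin (k + 2), s (Fr.b (ι i, false)) = (a⁻¹ : Fˣ) • Fr.b (ι i, false))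
    (hsT : s ∈ Tor Fr G0)
    (hfix : NoFix cs h (fun x => (rg x).subgroupOf G0) J ⟨s, hs⟩)
    (hgl : ∀ d : Fˣ, ∃ y ∈ G0, y * s * y⁻¹ = s ∧
      (∀ i : Fin (k + 2), y (Fr.b (ι i, true)) = ((if i = 0 then d else 1 : Fˣ) : F) • Fr.b (ι i, true)) ∧
      ∀ i : Fin (k + 2), y (Fr.b (ι i, false)) = ((if i = 0 then d else 1 : Fˣ)⁻¹ : Fˣ) • Fr.b (ι i, false))
    (hinv : ∃ y ∈ G0, y * s * y⁻¹ = s⁻¹ ∧ ∃ l : Fin (k + 2) → Fˣ,
      (∀ i, y (Fr.b (ι i, true)) = (l i : F) • Fr.b (ι i, false)) ∧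
      ∀ i, y (Fr.b (ι i, false)) = (H.ε * ((l i)⁻¹ : Fˣ)) • Fr.b (ι i, true)) :
    Blk cs h ((Tor Fr G0).subgroupOf G0) (fun x => (rg x).subgroupOf G0) J F k ⟨s, hs⟩ (phi hι hσ hX) := by
  have hcomm : ∀ A, (⟨s, hs⟩ : ↥G0) * phi hι hσ hX A = phi hι hσ hX A * ⟨s, hs⟩ := by
    intro A
    have h1 := conj_diag Fr hι hσ (hiso s hs) (fun _ => a) hst hsf (A : GL (Fin (k + 2)) F)
    have h2 : DD (fun _ : Fin (k + 2) => a) * (A : GL (Fin (k + 2)) F) * (DD (fun _ : Fin (k + 2) => a))⁻¹ =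
        (A : GL (Fin (k + 2)) F) := by
      rw [mul_inv_eq_iff_eq_mul]
      apply Units.ext
      change diagonal (fun _ => (a : F)) * A.1 = A.1 * diagonal (fun _ => (a : F))
      ext i j
      rw [diagonal_mul, mul_diagonal, mul_comm]
    rw [h2] at h1
    apply Subtype.ext
    change s * Phi Fr hι (A : GL (Fin (k + 2)) F) = Phi Fr hι (A : GL (Fin (k + 2)) F) * s
    rwa [mul_inv_eq_iff_eq_mul] at h1
  refine ⟨Subgroup.mem_subgroupOf.2 hsT, hfix, hcomm, ?_, ?_, ?_, ?_, ?_⟩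
  · intro A
    have h1 : (⊤ : Subgroup (SpecialLinearGroup (Fin (k + 2)) F)) ≤
        (LJ cs h ((Tor Fr G0).subgroupOf G0) (fun x => (rg x).subgroupOf G0) J).comap (phi hι hσ hX) := by
      rw [← Cfsg.Agent.LieClassical.SLGen.closure_transvections, Subgroup.closure_le]
      rintro _ ⟨i, j, hij, c, rfl⟩
      obtain ⟨r, hr, e⟩ := hJ1 i j hij
      refine X_le_LJ hr ?_
      change (phi hι hσ hX (SpecialLinearGroup.transvection hij c) : ↥G0) ∈ (rg r).subgroupOf G0
      rw [Subgroup.mem_subgroupOf, phi_transvection, e]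
      exact ⟨c, rfl⟩
    exact h1 (Subgroup.mem_top A)
  · intro r hr
    obtain ⟨i, j, hij, e, -⟩ := hJ2 r hr
    intro u hu
    rw [Subgroup.mem_subgroupOf, e] at hu
    obtain ⟨t, ht⟩ := hu
    exact ⟨_, transvection_mem_UT hij t, Subtype.ext ((phi_transvection hι hσ hX hij.ne t).trans ht.symm)⟩
  · intro r hr
    obtain ⟨i, j, hij, -, e⟩ := hJ2 r hr
    intro u hu
    rw [Subgroup.mem_subgroupOf, e] at hu
    obtain ⟨t, ht⟩ := hu
    exact ⟨_, transvection_mem_LT hij t, Subtype.ext ((phi_transvection hι hσ hX hij.ne' t).trans ht.symm)⟩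
  · refine gl_of_dd hcomm fun d => ?_
    obtain ⟨y, hy, hys, hyt, hyf⟩ := hgl d
    refine ⟨⟨y, hy⟩, Subtype.ext hys, fun A => Subtype.ext ?_⟩
    have h1 := conj_diag Fr hι hσ (hiso y hy) _ hyt hyf (A : GL (Fin (k + 2)) F)
    rw [DD_eq_dd] at h1
    change y * Phi Fr hι (A : GL (Fin (k + 2)) F) * y⁻¹ = Phi Fr hι (gc (dd (k + 1) d) A : GL (Fin (k + 2)) F)
    rw [h1, coe_gc]
  · obtain ⟨y, hy, hys, l, hyt, hyf⟩ := hinv
    obtain ⟨g, hg⟩ := exists_tr_inv (K := F) (n := k + 2) (by omega)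
    refine ⟨⟨y, hy⟩, Subtype.ext hys, (DD l)⁻¹ * g, Subtype.ext ?_⟩
    have h1 := conj_swap Fr hι hσ (hiso y hy) l hyt hyf (JS (k + 2) F : GL (Fin (k + 2)) F)
    change y * Phi Fr hι (JS (k + 2) F : GL (Fin (k + 2)) F) * y⁻¹ =
      Phi Fr hι (gc ((DD l)⁻¹ * g) (JS (k + 2) F) : GL (Fin (k + 2)) F)
    rw [h1, ← gc_gc, ← hg, coe_gc, ti_coe, inv_inv]

/-! ### Combinatorics of signed indices -/

section Comb

open Cfsg.Agent.Nodes.TypeC (wt wt_apply)

variable {n : ℕ}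

theorem sum_wt (a : Fin n × Bool) (m : Fin n) :
    ∑ l ∈ Finset.Iic m, wt a l = if a.1 ≤ m then (if a.2 then 1 else -1) else 0 := by
  rw [wt, Finset.sum_pi_single']
  simp only [Finset.mem_Iic]

theorem comb_aux {a b : Fin n} (hab : a ≠ b) {k : ℕ}
    (h0 : ∀ m : Fin n, k ≤ (m : ℕ) + 1 → (if a ≤ m then (1 : ℤ) else 0) + (if b ≤ m then -1 else 0) = 0)
    (h1 : ∀ m : Fin n, 0 ≤ (if a ≤ m then (1 : ℤ) else 0) + (if b ≤ m then -1 else 0)) :
    a < b ∧ (b : ℕ) < k := by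
  have hlt : a < b := by
    have h2 := h1 b
    rw [if_pos le_rfl] at h2
    by_contra h3
    rw [if_neg (fun h4 => h3 (lt_of_le_of_ne h4 hab))] at h2
    omega
  refine ⟨hlt, ?_⟩
  by_contra hbk
  have hlt' : (a : ℕ) < b := hlt
  have hb := b.2
  have h2 := h0 ⟨b - 1, by omega⟩ (by simp only; omega)
  rw [if_pos (by rw [Fin.le_def]; simp only; omega), if_neg (by rw [Fin.le_def]; simp only; omega)] at h2
  omega

/-- the indices of a root with vanishing partial sums -/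
theorem comb {a b : Fin n × Bool} (hab : a.1 ≠ b.1 ∨ a = b) {k : ℕ} (hk : 1 ≤ k) (hkn : k ≤ n)
    (h0 : ∀ m : Fin n, k ≤ (m : ℕ) + 1 → ∑ l ∈ Finset.Iic m, (wt a + wt b) l = 0)
    (h1 : ∀ m : Fin n, 0 ≤ ∑ l ∈ Finset.Iic m, (wt a + wt b) l) :
    ∃ i j : Fin n, i < j ∧ (j : ℕ) < k ∧ ((a = (i, true) ∧ b = (j, false)) ∨ (a = (j, false) ∧ b = (i, true))) := by
  have key : ∀ m : Fin n, ∑ l ∈ Finset.Iic m, (wt a + wt b) l = (if a.1 ≤ m then (if a.2 then 1 else -1) else 0) +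
      (if b.1 ≤ m then (if b.2 then 1 else -1) else 0) := by
    intro m
    simp only [Pi.add_apply, Finset.sum_add_distrib, sum_wt]
  obtain ⟨a, sa⟩ := a
  obtain ⟨b, sb⟩ := b
  have ha := h0 ⟨n - 1, by omega⟩ (by simp only; omega)
  have hle : ∀ c : Fin n, c ≤ ⟨n - 1, by omega⟩ := fun c => by rw [Fin.le_def]; simp only; omega
  rw [key, if_pos (hle _), if_pos (hle _)] at ha
  have hs : sa ≠ sb := by
    rintro rfl
    cases sa <;> simp at ha
  have hab' : a ≠ b := by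
    rcases hab with h | h
    · exact h
    · exact absurd (Prod.mk.inj h).2 hs
  simp only [key] at h0 h1
  cases sa <;> cases sb
  · exact absurd rfl hs
  · have h2 := comb_aux (a := b) (b := a) hab'.symm (fun m hm => by
      have := h0 m hm
      simp only [if_true, Bool.false_eq_true, if_false] at this
      rw [add_comm]; exact this) (fun m => by
      have := h1 m
      simp only [if_true, Bool.false_eq_true, if_false] at this
      rw [add_comm]; exact this)
    exact ⟨b, a, h2.1, h2.2, Or.inr ⟨rfl, rfl⟩⟩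
  · have h2 := comb_aux (a := a) (b := b) hab' (fun m hm => by
      have := h0 m hm
      simp only [if_true, Bool.false_eq_true, if_false] at this
      exact this) (fun m => by
      have := h1 m
      simp only [if_true, Bool.false_eq_true, if_false] at this
      exact this)
    exact ⟨a, b, h2.1, h2.2, Or.inl ⟨rfl, rfl⟩⟩
  · exact absurd rfl hs

/-- the partial sums of `ε_i - ε_j` -/
theorem sum_sub {i j : Fin n} {k : ℕ} (hi : (i : ℕ) < k) (hj : (j : ℕ) < k) {m : Fin n} (hm : k ≤ (m : ℕ) + 1) :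
    ∑ l ∈ Finset.Iic m, (wt (i, true) + wt (j, false)) l = 0 := by
  simp only [Pi.add_apply, Finset.sum_add_distrib, sum_wt]
  have h1 : i ≤ m := by rw [Fin.le_def]; omega
  have h2 : j ≤ m := by rw [Fin.le_def]; omega
  rw [if_pos h1, if_pos h2]
  simp

end Comb

/-! ### Type `C_n` -/

section TypeC

open Cfsg.Agent.Nodes.TypeC
open Cfsg.Agent.Nodes.WittRoot (PG_ne XG_swap rg_eq)

variable {n : ℕ} {W : Type*} [Group W] {cs : CoxeterSystem (CoxeterMatrix.B n) W}
  {Fr : Frame H (Fin n)}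

theorem psumC (x : Fin n → ℤ) (m : Fin n) :
    ∑ l ∈ Finset.Iic m, ee x l = (if (m : ℕ) + 1 < n then 1 else 2) * x m := by
  have h1 : ∀ k, ee x k = ∑ j, x j * bt j k := by
    intro k
    simp [ee, Finset.sum_apply]
  simp only [h1]
  rw [Finset.sum_comm]
  simp only [← Finset.mul_sum, sum_bt]
  rw [Finset.sum_eq_single m]
  · simp only [if_true]
    split_ifs <;> ring
  · intro j _ hj
    simp [Ne.symm hj]
  · simp

/-- the nodes of the block -/
def JJ (n k : ℕ) : Set (Fin n) := {l | (l : ℕ) + 1 < k}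

theorem hJ1C (hk : k + 2 ≤ n) (i j : Fin (k + 2)) (hij : i ≠ j) :
    ∃ r ∈ RootsJ cs (isCartan n) (JJ n (k + 2)),
      WittRoot.rg Fr r = XG Fr (Fin.castLE hk i, true) (Fin.castLE hk j, false) := by
  have hne : (Fin.castLE hk i) ≠ (Fin.castLE hk j) := fun h => hij (Fin.castLE_injective hk h)
  obtain ⟨r, hr, e⟩ := rt_of_ok (cs := cs) (a := (Fin.castLE hk i, true)) (b := (Fin.castLE hk j, false)) (Or.inl hne)
  refine ⟨r, ⟨hr, fun l hl => ?_⟩, ?_⟩
  · have hl' : k + 2 ≤ (l : ℕ) + 1 := not_lt.1 hl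
    have h1 := psumC r l
    rw [e, sum_sub (k := k + 2) (by simp) (by simp) hl'] at h1
    split_ifs at h1 <;> omega
  · rw [rg_eq Fr (Or.inl hne) e, PG_ne Fr hne]

theorem hJ2C (hk : k + 2 ≤ n) {r : Fin n → ℤ} (hr : r ∈ PosJ cs (isCartan n) (JJ n (k + 2))) :
    ∃ i j : Fin (k + 2), i < j ∧ WittRoot.rg Fr r = XG Fr (Fin.castLE hk i, true) (Fin.castLE hk j, false) ∧
      WittRoot.rg Fr (-r) = XG Fr (Fin.castLE hk j, true) (Fin.castLE hk i, false) := by
  obtain ⟨hr1, hr2, hr3⟩ := hr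
  obtain ⟨a, b, hab, e⟩ := exists_of_isRoot cs hr1
  obtain ⟨i, j, hij, hj, hc⟩ := comb hab (k := k + 2) (by omega) hk (fun m hm => by
      rw [← e, psumC, hr3 m (not_lt.2 hm), mul_zero]) (fun m => by
      rw [← e, psumC]
      have h5 : (0 : ℤ) ≤ r m := hr2 m
      split_ifs <;> omega)
  have hij' : (i : ℕ) < j := hij
  refine ⟨⟨i, by omega⟩, ⟨j, hj⟩, hij, ?_, ?_⟩
  · have e' : ee r = wt (i, true) + wt (j, false) := by
      rcases hc with ⟨rfl, rfl⟩ | ⟨rfl, rfl⟩
      · exact e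
      · exact e.trans (add_comm _ _)
    have h1 : ((i, true) : Fin n × Bool).1 ≠ ((j, false) : Fin n × Bool).1 := hij.ne
    have h2 := rg_eq Fr (Or.inl h1) e'
    rw [PG_ne Fr h1] at h2
    exact h2
  · have e' : ee (-r) = wt (j, true) + wt (i, false) := by
      rw [ee_neg, e]
      rcases hc with ⟨rfl, rfl⟩ | ⟨rfl, rfl⟩
      · have h1 := wt_ng (i, true)
        have h2 := wt_ng (j, false)
        change wt (i, false) = _ at h1
        change wt (j, true) = _ at h2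
        rw [h1, h2]; abel
      · have h1 := wt_ng (i, true)
        have h2 := wt_ng (j, false)
        change wt (i, false) = _ at h1
        change wt (j, true) = _ at h2
        rw [h1, h2]; abel
    have h1 : ((j, true) : Fin n × Bool).1 ≠ ((i, false) : Fin n × Bool).1 := hij.ne'
    have h2 := rg_eq Fr (Or.inl h1) e'
    rw [PG_ne Fr h1] at h2
    exact h2

end TypeC

/-! ### Type `D_{n+2}` -/

section TypeD

open Cfsg.Agent.Nodes.TypeC (wt wt_ng)
open Cfsg.Agent.Nodes.TypeD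
open Cfsg.Agent.Nodes.WittRoot (XG_swap)
open Cfsg.Agent.Nodes.WittRGDD (rg_eq)

variable {n : ℕ} {W : Type*} [Group W] {cs : CoxeterSystem (TypeD.M n) W}
  {Fr : Frame H (Fin (n + 2))}

theorem psumD (x : Fin (n + 2) → ℤ) (m : Fin (n + 2)) : ∑ k ∈ Finset.Iic m, ee x k =
      if (m : ℕ) < n then x m else if (m : ℕ) = n then x m + x (Fin.last (n + 1)) else 2 * x m := by
  have h1 : ∀ k, ee x k = ∑ j, x j * bt j k := by
    intro k
    simp [ee, Finset.sum_apply]
  simp only [h1]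
  rw [Finset.sum_comm]
  simp only [← Finset.mul_sum, sum_bt]
  have hm := m.2
  rw [Fin.sum_univ_castSucc]
  have h2 : ∀ i : Fin (n + 1), ((i.castSucc : Fin (n + 2)) : ℕ) + 1 < n + 2 := fun i => by
    have := i.2
    simp only [Fin.val_castSucc]
    omega
  have h3 : ¬ ((Fin.last (n + 1) : Fin (n + 2)) : ℕ) + 1 < n + 2 := by simp
  simp only [h2, h3, if_true, if_false]
  by_cases h4 : (m : ℕ) < n + 1
  · have h5 : m = (⟨m, h4⟩ : Fin (n + 1)).castSucc := by ext; simp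
    rw [Finset.sum_eq_single (⟨m, h4⟩ : Fin (n + 1))]
    · rw [← h5, if_pos rfl]
      split_ifs <;> omega
    · intro j _ hj
      rw [if_neg, mul_zero]
      intro h'
      apply hj
      ext
      have := congrArg Fin.val h'
      simpa using this.symm
    · simp
  · have h5 : m = Fin.last (n + 1) := by ext; simp; omega
    rw [Finset.sum_eq_zero]
    · subst h5
      have h6 : ((Fin.last (n + 1) : Fin (n + 2)) : ℕ) = n + 1 := by simp
      rw [h6, if_neg (by omega), if_pos rfl, if_neg (by omega), if_neg (by omega)]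
      ring
    · intro j _
      rw [if_neg, mul_zero]
      rintro h'
      have := congrArg Fin.val h'
      have hj := j.2
      simp at this
      omega

theorem hJ1D (hk : k + 2 ≤ n + 2) (hkn : k + 2 ≤ n + 1) (i j : Fin (k + 2)) (hij : i ≠ j) :
    ∃ r ∈ RootsJ cs (isCartan n) (JJ (n + 2) (k + 2)),
      WittRGDD.rg Fr r = XG Fr (Fin.castLE hk i, true) (Fin.castLE hk j, false) := by
  have hne : (Fin.castLE hk i) ≠ (Fin.castLE hk j) := fun h => hij (Fin.castLE_injective hk h)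
  obtain ⟨r, hr, e⟩ := rt_of_ok (cs := cs) (a := (Fin.castLE hk i, true)) (b := (Fin.castLE hk j, false)) hne
  have hlast : r (Fin.last (n + 1)) = 0 := by
    have h1 := psumD r (Fin.last (n + 1))
    rw [e, sum_sub (k := k + 2) (by simp) (by simp) (by simp; omega), if_neg (by simp), if_neg (by simp)] at h1
    omega
  refine ⟨r, ⟨hr, fun l hl => ?_⟩, ?_⟩
  · have hl' : k + 2 ≤ (l : ℕ) + 1 := not_lt.1 hl
    have h1 := psumD r l
    rw [e, sum_sub (k := k + 2) (by simp) (by simp) hl', hlast] at h1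
    split_ifs at h1 <;> omega
  · exact rg_eq Fr (a := (Fin.castLE hk i, true)) (b := (Fin.castLE hk j, false)) hne e

theorem hJ2D (hk : k + 2 ≤ n + 2) (hkn : k + 2 ≤ n + 1) {r : Fin (n + 2) → ℤ}
    (hr : r ∈ PosJ cs (isCartan n) (JJ (n + 2) (k + 2))) :
    ∃ i j : Fin (k + 2), i < j ∧ WittRGDD.rg Fr r = XG Fr (Fin.castLE hk i, true) (Fin.castLE hk j, false) ∧
      WittRGDD.rg Fr (-r) = XG Fr (Fin.castLE hk j, true) (Fin.castLE hk i, false) := by
  obtain ⟨hr1, hr2, hr3⟩ := hr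
  obtain ⟨a, b, hab, e⟩ := exists_of_isRoot cs hr1
  have hlast : r (Fin.last (n + 1)) = 0 := hr3 _ (by
    change ¬ (((Fin.last (n + 1) : Fin (n + 2)) : ℕ) + 1 < k + 2)
    simp; omega)
  obtain ⟨i, j, hij, hj, hc⟩ := comb (Or.inl hab) (k := k + 2) (by omega) hk (fun m hm => by
      rw [← e, psumD, hr3 m (not_lt.2 hm), hlast]
      split_ifs <;> omega) (fun m => by
      rw [← e, psumD]
      have h5 : (0 : ℤ) ≤ r m := hr2 m
      split_ifs <;> omega)
  have hij' : (i : ℕ) < j := hij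
  refine ⟨⟨i, by omega⟩, ⟨j, hj⟩, hij, ?_, ?_⟩
  · have e' : ee r = wt (i, true) + wt (j, false) := by
      rcases hc with ⟨rfl, rfl⟩ | ⟨rfl, rfl⟩
      · exact e
      · exact e.trans (add_comm _ _)
    have h1 : ((i, true) : Fin (n + 2) × Bool).1 ≠ ((j, false) : Fin (n + 2) × Bool).1 := hij.ne
    exact rg_eq Fr h1 e'
  · have e' : ee (-r) = wt (j, true) + wt (i, false) := by
      rw [ee_neg, e]
      rcases hc with ⟨rfl, rfl⟩ | ⟨rfl, rfl⟩
      · have h1 := wt_ng (i, true)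
        have h2 := wt_ng (j, false)
        change wt (i, false) = _ at h1
        change wt (j, true) = _ at h2
        rw [h1, h2]; abel
      · have h1 := wt_ng (i, true)
        have h2 := wt_ng (j, false)
        change wt (i, false) = _ at h1
        change wt (j, true) = _ at h2
        rw [h1, h2]; abel
    have h1 : ((j, true) : Fin (n + 2) × Bool).1 ≠ ((i, false) : Fin (n + 2) × Bool).1 := hij.ne'
    exact rg_eq Fr h1 e'

end TypeD

end Cfsg.Agent.H156.SqBlk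
end
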