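import Mathlib
import Cfsg.Agent.H156.SqBlk
import Cfsg.Agent.OddHalf.NI.SpClosed
import Cfsg.Agent.Nodes.WittAll
import Cfsg.Agent.Nodes.TyChart
import Cfsg.Agent.TitsThree.KInstSp
set_option linter.all false

-- part: H156/SqFix
section
/-!
Torus elements without fixed points on the root groups of a Witt frame outside a block (for S2523, tasks 268-270).
-/

set_option autoImplicit false
set_option linter.unusedSectionVars false

namespace Cfsg.Agent.H156.SqFix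

open Matrix
open CoxeterSystem Cfsg.Agent.ChevalleyStructure.CoxeterGeom Cfsg.Agent.Tits.Roots Cfsg.Agent.Tits.Core
  Cfsg.Agent.Nodes.Reps Cfsg.Agent.Nodes.BNOf Cfsg.Agent.Nodes.StabComb
  Cfsg.Agent.Nodes.RGDLib Cfsg.Agent.Nodes.Bruhat Cfsg.Agent.Nodes.OppDec Cfsg.Agent.Nodes.LeviDec
open Cfsg.Agent.Nodes
open Cfsg.Agent.TitsThree.Siegel Cfsg.Agent.TitsThree.WittFrame Cfsg.Agent.TitsThree.WittWeyl
open Cfsg.Agent.Nodes.WittRoot (XG ZG PG PG_ne PG_self)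
open Cfsg.Agent.Nodes.WittRGD (Tor b_ne_zero)
open Cfsg.Agent.H162.GaussSL Cfsg.Agent.H162.GaussReg Cfsg.Agent.H162.GaussLevi Cfsg.Agent.H162.GaussMain
open Cfsg.Agent.H156.SqPhi Cfsg.Agent.H156.SqBlk

variable {F : Type*} [Field F] {V : Type*} [AddCommGroup V] [Module F V] {H : HForm F V} {N k : ℕ}
  {Fr : Frame H (Fin N)} {G0 : Subgroup (V ≃ₗ[F] V)}

theorem X_inj {a b : Fin N × Bool} (hab : a.1 ≠ b.1) {t t' : F} (h : Fr.X a b t = Fr.X a b t') : t = t' := by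
  have h1 := X_apply_neg Fr hab t
  rw [h, X_apply_neg Fr hab t'] at h1
  have h2 := add_left_cancel h1
  have h3 : (t' - t) • Fr.b a = 0 := by rw [sub_smul, h2, sub_self]
  exact (sub_eq_zero.1 ((smul_eq_zero.1 h3).resolve_right (b_ne_zero (Fr := Fr) a))).symm

theorem Z_inj {x : Fin N × Bool} {p q : Fr.Adm} (h : Fr.Z x p = Fr.Z x q) : p = q := by
  have h1 := Z_apply_neg Fr x p
  rw [h, Z_apply_neg Fr x q] at h1
  have hη := Fr.η_ne x
  have hc : q.c = p.c := by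
    have h2 := congrArg (fun v => H.h v (Fr.b (neg x))) h1
    simp only [H.add_left, H.smul_left] at h2
    rw [Fr.h0' _ (Fr.ok_mem q.ok), Fr.h0' _ (Fr.ok_mem p.ok), Fr.hb_self_neg] at h2
    have h3 := Fr.η_ne (neg x)
    have h4 : q.c * Fr.η x * Fr.η (neg x) = p.c * Fr.η x * Fr.η (neg x) := by linear_combination h2
    exact mul_right_cancel₀ hη (mul_right_cancel₀ h3 h4)
  rw [hc] at h1
  have h2 := add_left_cancel (add_right_cancel h1)
  have hw : q.w = p.w := by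
    have h3 := congrArg (fun v => (Fr.η x)⁻¹ • v) h2
    simpa only [smul_smul, inv_mul_cancel₀ hη, one_smul] using h3
  exact (Frame.Adm.ext hw hc).symm

section

variable (hσ : ∀ c, H.σ c = c) {s : V ≃ₗ[F] V} (hs : s ∈ G0) (hiso : ∀ g ∈ G0, H.IsIso g)
  {l : Fin N × Bool → F} (hl : ∀ x, s (Fr.b x) = l x • Fr.b x) (h0 : ∀ w ∈ Fr.V0, s w = w)

include hσ hs hiso hl

theorem fixX {a b : Fin N × Bool} (hab : a.1 ≠ b.1) (hne : l a * l b ≠ 1) {u : V ≃ₗ[F] V} (hu : u ∈ XG Fr a b)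
    (hsu : s * u * s⁻¹ = u) : u = 1 := by
  obtain ⟨t, rfl⟩ := hu
  rw [conj_X Fr (hiso s hs) hab hab (hl a) (hl b) t, hσ] at hsu
  have h1 := X_inj hab hsu
  have h2 := Fr.η_ne b
  have h3 : (l a * l b - 1) * t = 0 := by
    have h4 : l a * l b * (Fr.η b)⁻¹ * Fr.η b * t = l a * l b * t := by field_simp
    rw [h4] at h1
    rw [sub_mul, h1, one_mul, sub_self]
  rw [(mul_eq_zero.1 h3).resolve_left (sub_ne_zero.2 hne), Fr.X_zero]

include h0

theorem fixZ {x : Fin N × Bool} (hne : ∀ p : Fr.Adm, l x • p.w = p.w → l x * l x * p.c = p.c → p = 1)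
    {u : V ≃ₗ[F] V} (hu : u ∈ ZG Fr x) (hsu : s * u * s⁻¹ = u) : u = 1 := by
  obtain ⟨p, rfl⟩ := hu
  rw [conj_Z Fr (hiso s hs) (hl x) p p (h0 _ (Fr.ok_mem p.ok)) rfl, hσ] at hsu
  have h1 := Z_inj hsu
  have h2 : p = 1 := by
    refine hne p ?_ ?_
    · have := congrArg Frame.Adm.w h1
      rwa [Frame.Adm.smul_w] at this
    · have := congrArg Frame.Adm.c h1
      rwa [Frame.Adm.smul_c, hσ] at this
  rw [h2, Fr.Z_one]

end

/-! ### Type `C_n` -/

section TypeC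

open Cfsg.Agent.Nodes.TypeC
open Cfsg.Agent.Nodes.WittRoot (rg_eq)

variable {n : ℕ} {W : Type*} [Group W] {cs : CoxeterSystem (CoxeterMatrix.B n) W}
  {Fr : Frame H (Fin n)}

theorem apply_zeroC {r : Fin n → ℤ} {a b : Fin n × Bool} (e : ee r = wt a + wt b) (hab : a.2 ≠ b.2)
    (ha : (a.1 : ℕ) < k) (hb : (b.1 : ℕ) < k) {m : Fin n} (hm : m ∉ JJ n k) : r m = 0 := by
  have hm' : k ≤ (m : ℕ) + 1 := not_lt.1 hm
  have h1 := psumC r m
  have h2 : ∑ l ∈ Finset.Iic m, ee r l = 0 := by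
    obtain ⟨a, sa⟩ := a
    obtain ⟨b, sb⟩ := b
    rw [e]
    cases sa <;> cases sb
    · exact absurd rfl hab
    · rw [add_comm]; exact sum_sub hb ha hm'
    · exact sum_sub ha hb hm'
    · exact absurd rfl hab
  rw [h2] at h1
  split_ifs at h1 <;> omega

theorem noFixC (hσ : ∀ c, H.σ c = c) {s : V ≃ₗ[F] V} (hs : s ∈ G0) (hiso : ∀ g ∈ G0, H.IsIso g)
    {l : Fin n × Bool → F} (hl : ∀ x, s (Fr.b x) = l x • Fr.b x) (h0 : ∀ w ∈ Fr.V0, s w = w)
    (h1 : ∀ a b : Fin n × Bool, a.1 ≠ b.1 → ¬ (a.2 ≠ b.2 ∧ (a.1 : ℕ) < k ∧ (b.1 : ℕ) < k) → l a * l b ≠ 1)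
    (h2 : ∀ x, ∀ p : Fr.Adm, l x • p.w = p.w → l x * l x * p.c = p.c → p = 1) :
    NoFix cs (isCartan n) (fun x => (WittRoot.rg Fr x).subgroupOf G0) (JJ n k) ⟨s, hs⟩ := by
  rintro r hr ⟨m, hm, hrm⟩ u hu hsu
  obtain ⟨a, b, hab, e⟩ := exists_of_isRoot cs hr
  rw [Subgroup.mem_subgroupOf, rg_eq Fr hab e] at hu
  have hsu' : s * u.1 * s⁻¹ = u.1 := congrArg Subtype.val hsu
  apply Subtype.ext
  rcases hab with h | rfl
  · rw [PG_ne Fr h] at hu
    refine fixX hσ hs hiso hl h (h1 a b h ?_) hu hsu'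
    rintro ⟨h3, h4, h5⟩
    exact hrm (apply_zeroC e h3 h4 h5 hm)
  · rw [PG_self] at hu
    exact fixZ hσ hs hiso hl h0 (h2 a) hu hsu'

end TypeC

/-! ### Type `D_{n+2}` -/

section TypeD

open Cfsg.Agent.Nodes.TypeC (wt wt_ng)
open Cfsg.Agent.Nodes.TypeD
open Cfsg.Agent.Nodes.WittRGDD (rg_eq)

variable {n : ℕ} {W : Type*} [Group W] {cs : CoxeterSystem (TypeD.M n) W}
  {Fr : Frame H (Fin (n + 2))}

theorem apply_zeroD {r : Fin (n + 2) → ℤ} {a b : Fin (n + 2) × Bool} (e : ee r = wt a + wt b) (hab : a.2 ≠ b.2)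
    (hk : k ≤ n + 1) (ha : (a.1 : ℕ) < k) (hb : (b.1 : ℕ) < k) {m : Fin (n + 2)} (hm : m ∉ JJ (n + 2) k) : r m = 0 := by
  have h2 : ∀ m : Fin (n + 2), k ≤ (m : ℕ) + 1 → ∑ l ∈ Finset.Iic m, ee r l = 0 := by
    intro m hm'
    obtain ⟨a, sa⟩ := a
    obtain ⟨b, sb⟩ := b
    rw [e]
    cases sa <;> cases sb
    · exact absurd rfl hab
    · rw [show wt (a, false) + wt (b, true) = wt (b, true) + wt (a, false) from add_comm _ _]
      exact sum_sub hb ha hm'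
    · exact sum_sub ha hb hm'
    · exact absurd rfl hab
  have hlast : r (Fin.last (n + 1)) = 0 := by
    have h1 := psumD r (Fin.last (n + 1))
    rw [h2 _ (by simp; omega), if_neg (by simp), if_neg (by simp)] at h1
    omega
  have h1 := psumD r m
  rw [h2 m (not_lt.1 hm), hlast] at h1
  split_ifs at h1 <;> omega

theorem noFixD (hσ : ∀ c, H.σ c = c) (hk : k ≤ n + 1) {s : V ≃ₗ[F] V} (hs : s ∈ G0) (hiso : ∀ g ∈ G0, H.IsIso g)
    {l : Fin (n + 2) × Bool → F} (hl : ∀ x, s (Fr.b x) = l x • Fr.b x)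
    (h1 : ∀ a b : Fin (n + 2) × Bool, a.1 ≠ b.1 → ¬ (a.2 ≠ b.2 ∧ (a.1 : ℕ) < k ∧ (b.1 : ℕ) < k) → l a * l b ≠ 1) :
    NoFix cs (isCartan n) (fun x => (WittRGDD.rg Fr x).subgroupOf G0) (JJ (n + 2) k) ⟨s, hs⟩ := by
  rintro r hr ⟨m, hm, hrm⟩ u hu hsu
  obtain ⟨a, b, hab, e⟩ := exists_of_isRoot cs hr
  rw [Subgroup.mem_subgroupOf, rg_eq Fr hab e] at hu
  have hsu' : s * u.1 * s⁻¹ = u.1 := congrArg Subtype.val hsu
  apply Subtype.ext
  refine fixX hσ hs hiso hl hab (h1 a b hab ?_) hu hsu'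
  rintro ⟨h3, h4, h5⟩
  exact hrm (apply_zeroD e h3 hk h4 h5 hm)

end TypeD

end Cfsg.Agent.H156.SqFix
end

-- part: H156/SqTor
section
/-!
Torus elements and Weyl elements of a Witt frame, assembly of the block datum (for S2523, tasks 268-270).
-/

set_option autoImplicit false
set_option linter.unusedSectionVars false

namespace Cfsg.Agent.H156.SqTor

open Matrix
open CoxeterSystem Cfsg.Agent.ChevalleyStructure.CoxeterGeom Cfsg.Agent.Tits.Roots Cfsg.Agent.Tits.Core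
  Cfsg.Agent.Nodes.Reps Cfsg.Agent.Nodes.BNOf Cfsg.Agent.Nodes.StabComb
  Cfsg.Agent.Nodes.RGDLib Cfsg.Agent.Nodes.Bruhat Cfsg.Agent.Nodes.OppDec Cfsg.Agent.Nodes.LeviDec
open Cfsg.Agent.Nodes
open Cfsg.Agent.TitsThree.Siegel Cfsg.Agent.TitsThree.WittFrame Cfsg.Agent.TitsThree.WittWeyl
open Cfsg.Agent.Nodes.WittRoot (XG ZG PG PG_ne PG_self Amb Mono)
open Cfsg.Agent.Nodes.WittRGD (Tor b_ne_zero)
open Cfsg.Agent.H162.GaussSL Cfsg.Agent.H162.GaussReg Cfsg.Agent.H162.GaussLevi Cfsg.Agent.H162.GaussMain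
open Cfsg.Agent.H156.SqPhi Cfsg.Agent.H156.SqBlk

variable {F : Type*} [Field F] {V : Type*} [AddCommGroup V] [Module F V] {H : HForm F V} {N k : ℕ}
  (Fr : Frame H (Fin N)) {G0 : Subgroup (V ≃ₗ[F] V)}

/-- the torus element -/
def tor (χ : Fin N → Fˣ) : V ≃ₗ[F] V := Phi Fr (ι := id) Function.injective_id (DD χ)

theorem DD_mul (χ χ' : Fin k → Fˣ) : DD (χ * χ') = DD χ * DD χ' := by
  apply Units.ext
  change diagonal _ = diagonal _ * diagonal _
  rw [diagonal_mul_diagonal]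
  rfl

theorem tor_mul (χ χ' : Fin N → Fˣ) : tor Fr (χ * χ') = tor Fr χ * tor Fr χ' := by
  unfold tor
  rw [DD_mul, map_mul]

theorem tor_comm (χ χ' : Fin N → Fˣ) : tor Fr χ * tor Fr χ' * (tor Fr χ)⁻¹ = tor Fr χ' := by
  rw [mul_inv_eq_iff_eq_mul, ← tor_mul, ← tor_mul, mul_comm]

theorem tor_true (χ : Fin N → Fˣ) (i : Fin N) : tor Fr χ (Fr.b (i, true)) = (χ i : F) • Fr.b (i, true) := by
  have h1 : cT Fr id (Fr.b (i, true)) = Pi.single i 1 := by
    funext j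
    rw [cT_apply, hb_tf, Pi.single_apply]
    simp only [id_eq, eq_comm]
  have h2 : cF Fr id (Fr.b (i, true)) = 0 := by
    funext j
    rw [cF_apply, hb_tt, mul_zero]; rfl
  have h3 : (((DD χ).1 - 1) *ᵥ Pi.single i (1 : F)) = Pi.single i ((χ i : F) - 1) := by
    have : (DD χ).1 = diagonal fun i => (χ i : F) := rfl
    rw [this, ← diagonal_one, diagonal_sub, diagonal_mulVec_single, mul_one]
  unfold tor
  rw [Phi_apply, h1, h2, mulVec_zero, map_zero, add_zero, h3, eT, Fintype.linearCombination_apply_single]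
  simp only [id_eq]
  module

theorem tor_false (χ : Fin N → Fˣ) (i : Fin N) :
    tor Fr χ (Fr.b (i, false)) = ((χ i)⁻¹ : Fˣ) • Fr.b (i, false) := by
  have h1 : cF Fr id (Fr.b (i, false)) = Pi.single i 1 := by
    funext j
    rw [cF_apply, hb_ft, Pi.single_apply]
    simp only [id_eq]
    by_cases h : i = j
    · subst h
      rw [if_pos rfl, if_pos rfl, inv_mul_cancel₀ H.ε_ne]
    · rw [if_neg h, if_neg (Ne.symm h), mul_zero]
  have h2 : cT Fr id (Fr.b (i, false)) = 0 := by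
    funext j
    rw [cT_apply, hb_ff]; rfl
  have h3 : ((((DD χ)⁻¹).1ᵀ - 1) *ᵥ Pi.single i (1 : F)) = Pi.single i ((((χ i)⁻¹ : Fˣ) : F) - 1) := by
    have : ((DD χ)⁻¹).1 = diagonal fun i => (((χ i)⁻¹ : Fˣ) : F) := rfl
    rw [this, diagonal_transpose, ← diagonal_one, diagonal_sub, diagonal_mulVec_single, mul_one]
  unfold tor
  rw [Phi_apply, h1, h2, mulVec_zero, map_zero, add_zero, h3, eF, Fintype.linearCombination_apply_single]
  simp only [id_eq, Units.smul_def]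
  module

theorem tor_V0 (χ : Fin N → Fˣ) {w : V} (hw : w ∈ Fr.V0) : tor Fr χ w = w := Phi_V0 Fr _ _ hw

/-- the eigenvalues -/
def lam (χ : Fin N → Fˣ) (x : Fin N × Bool) : F := if x.2 then (χ x.1 : F) else ((χ x.1)⁻¹ : Fˣ)

theorem lam_ne (χ : Fin N → Fˣ) (x : Fin N × Bool) : lam χ x ≠ 0 := by
  unfold lam; split_ifs <;> exact Units.ne_zero _

theorem tor_apply (χ : Fin N → Fˣ) (x : Fin N × Bool) : tor Fr χ (Fr.b x) = lam χ x • Fr.b x := by
  obtain ⟨i, s⟩ := x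
  cases s
  · exact tor_false Fr χ i
  · exact tor_true Fr χ i

variable {Fr}

theorem tor_mem_Tor {χ : Fin N → Fˣ} (h : tor Fr χ ∈ G0) : tor Fr χ ∈ Tor Fr G0 :=
  ⟨h, fun x => ⟨lam χ x, lam_ne χ x, tor_apply Fr χ x⟩⟩

/-- exchange of the indices of `S` -/
def piS (S : Finset (Fin N)) (x : Fin N × Bool) : Fin N × Bool :=
  if x.1 ∈ S then Cfsg.Agent.TitsThree.WittFrame.neg x else x

theorem piS_piS (S : Finset (Fin N)) (x : Fin N × Bool) : piS S (piS S x) = x := by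
  unfold piS
  by_cases h : x.1 ∈ S
  · rw [if_pos h, if_pos (by exact h), Cfsg.Agent.TitsThree.WittFrame.neg_neg]
  · rw [if_neg h, if_neg h]

theorem lam_piS {χ : Fin N → Fˣ} {S : Finset (Fin N)} (h : ∀ j, j ∉ S → χ j = 1) (x : Fin N × Bool) :
    lam χ (piS S x) * lam χ x = 1 := by
  obtain ⟨i, s⟩ := x
  unfold piS
  by_cases hi : i ∈ S
  · rw [if_pos hi]
    cases s <;> simp [lam, Cfsg.Agent.TitsThree.WittFrame.neg]
  · rw [if_neg hi]
    cases s <;> simp [lam, h i hi]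

theorem hinv_of (hσ : ∀ c, H.σ c = c) (hA : Amb Fr G0) {χ : Fin N → Fˣ} {S : Finset (Fin N)}
    (hχ : ∀ j, j ∉ S → χ j = 1) {y : V ≃ₗ[F] V} (hy : y ∈ G0) (hm : Mono Fr y (piS S)) {ι : Fin k → Fin N}
    (hι : ∀ i, ι i ∈ S) : y * tor Fr χ * y⁻¹ = (tor Fr χ)⁻¹ ∧ ∃ l : Fin k → Fˣ,
      (∀ i, y (Fr.b (ι i, true)) = (l i : F) • Fr.b (ι i, false)) ∧
      ∀ i, y (Fr.b (ι i, false)) = (H.ε * ((l i)⁻¹ : Fˣ)) • Fr.b (ι i, true) := by
  constructor
  · have h1 : (tor Fr χ * (y * tor Fr χ)) = y := by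
      refine (inv_mul_eq_one.1 ?_).symm
      refine WittRGD.Amb.eq_one_of_fix hA (fun x => ?_) (fun w hw => ?_)
      · obtain ⟨c, hc, e⟩ := hm x
        have e1 : tor Fr χ (y (tor Fr χ (Fr.b x))) = y (Fr.b x) := by
          rw [tor_apply, map_smul, e, smul_smul, map_smul, tor_apply, smul_smul]
          congr 1
          linear_combination c * lam_piS hχ x
        change y⁻¹ (tor Fr χ (y (tor Fr χ (Fr.b x)))) = _
        rw [e1]
        exact y.symm_apply_apply _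
      · change y⁻¹ (tor Fr χ (y (tor Fr χ w))) = _
        rw [tor_V0 Fr χ hw, tor_V0 Fr χ (hA.map_V0 hy hm (piS_piS S) hw)]
        exact y.symm_apply_apply _
    rw [mul_inv_eq_iff_eq_mul, eq_inv_mul_iff_mul_eq]
    exact h1
  · have h1 : ∀ i, ∃ c : Fˣ, y (Fr.b (ι i, true)) = (c : F) • Fr.b (ι i, false) := by
      intro i
      obtain ⟨c, hc, e⟩ := hm (ι i, true)
      unfold piS at e
      rw [if_pos (hι i)] at e
      exact ⟨Units.mk0 c hc, e⟩
    choose l hl using h1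
    refine ⟨l, hl, fun i => ?_⟩
    obtain ⟨c, hc, e⟩ := hm (ι i, false)
    unfold piS at e
    rw [if_pos (hι i)] at e
    have e' : y (Fr.b (ι i, false)) = c • Fr.b (ι i, true) := e
    have h2 := hA.iso y hy (Fr.b (ι i, true)) (Fr.b (ι i, false))
    rw [hl, e', H.smul_left, H.smul_right, hσ, hb_ft, hb_tf, if_pos rfl, if_pos rfl] at h2
    have hε := eps_sq hσ
    have h3 : c = H.ε * ((l i)⁻¹ : Fˣ) := by
      rw [Units.val_inv_eq_inv_val, eq_mul_inv_iff_mul_eq₀ (Units.ne_zero _)]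
      linear_combination H.ε * h2 - (c * (l i : F)) * hε
    rw [e', h3]

/-- **Assembly of the block.** -/
theorem blkTor {W : Type*} [Group W] {M : CoxeterMatrix (Fin N)}
    {cs : CoxeterSystem M W} {A : Fin N → Fin N → ℤ} {h : IsCartan M A} {rg : (Fin N → ℤ) → Subgroup (V ≃ₗ[F] V)}
    (hσ : ∀ c, H.σ c = c) (hA : Amb Fr G0) (hk : k + 2 ≤ N) {J : Set (Fin N)}
    (hJ1 : ∀ i j : Fin (k + 2), i ≠ j → ∃ r ∈ RootsJ cs h J,
      rg r = XG Fr (Fin.castLE hk i, true) (Fin.castLE hk j, false))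
    (hJ2 : ∀ r ∈ PosJ cs h J, ∃ i j : Fin (k + 2), i < j ∧
      rg r = XG Fr (Fin.castLE hk i, true) (Fin.castLE hk j, false) ∧
      rg (-r) = XG Fr (Fin.castLE hk j, true) (Fin.castLE hk i, false))
    {χ : Fin N → Fˣ} (hs : tor Fr χ ∈ G0) {a : Fˣ} (hχ : ∀ i : Fin (k + 2), χ (Fin.castLE hk i) = a)
    (hfix : NoFix cs h (fun x => (rg x).subgroupOf G0) J ⟨tor Fr χ, hs⟩)
    (hgl : ∀ d : Fˣ, ∃ χ' : Fin N → Fˣ, tor Fr χ' ∈ G0 ∧
      ∀ i : Fin (k + 2), χ' (Fin.castLE hk i) = if i = 0 then d else 1)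
    (hinv : ∃ S : Finset (Fin N), (∀ i : Fin (k + 2), Fin.castLE hk i ∈ S) ∧ (∀ j, j ∉ S → χ j = 1) ∧
      ∃ y ∈ G0, Mono Fr y (piS S)) :
    Blk cs h ((Tor Fr G0).subgroupOf G0) (fun x => (rg x).subgroupOf G0) J F k ⟨tor Fr χ, hs⟩
      (phi (Fr := Fr) (Fin.castLE_injective hk) hσ hA.X_mem) := by
  refine blk (Fin.castLE_injective hk) hσ hA.X_mem hA.iso hJ1 hJ2 hs (a := a) ?_ ?_ (tor_mem_Tor hs) hfix ?_ ?_
  · intro i
    rw [tor_true, hχ]
  · intro i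
    rw [tor_false, hχ]
  · intro d
    obtain ⟨χ', h1, h2⟩ := hgl d
    refine ⟨tor Fr χ', h1, tor_comm Fr _ _, fun i => ?_, fun i => ?_⟩
    · rw [tor_true, h2]
    · rw [tor_false, h2]
  · obtain ⟨S, hS, hχS, y, hy, hm⟩ := hinv
    exact ⟨y, hy, hinv_of hσ hA hχS hy hm hS⟩

/-! ### Weyl elements -/

theorem mono_nZ {p : Fr.Adm} (hp : p.c ≠ 0) (i : Fin N) : Mono Fr (nZ Fr (i, true) p) (piS {i}) := by
  have h3 := H.ε_ne
  have hσ : H.σ p.c ≠ 0 := by simpa using hp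
  have hη := Fr.η_ne (i, true)
  intro x
  unfold piS
  by_cases h1 : x.1 = i
  · obtain ⟨j, s⟩ := x
    simp only at h1
    subst h1
    rw [if_pos (by simp)]
    cases s
    · exact ⟨Fr.η (j, true) * p.c, mul_ne_zero hη hp, nZ_apply_neg Fr (j, true) p hp⟩
    · exact ⟨_, by simp [*], nZ_apply_self Fr (j, true) p hp⟩
  · refine ⟨1, one_ne_zero, ?_⟩
    rw [one_smul, if_neg (by simpa using h1)]
    exact nZ_apply_of_ne Fr (x := (i, true)) (z := x) h1 p

/-- products of the elements `nZ` -/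
theorem exists_monoZ (hA : Amb Fr G0) {p : Fr.Adm} (hp : p.c ≠ 0) (S : Finset (Fin N)) :
    ∃ y ∈ G0, Mono Fr y (piS S) := by
  induction S using Finset.induction_on with
  | empty => exact ⟨1, one_mem _, Mono.one.congr fun x => by unfold piS; rw [if_neg (Finset.notMem_empty _)]; rfl⟩
  | insert i S hi ih =>
    obtain ⟨y, hy, hm⟩ := ih
    refine ⟨nZ Fr (i, true) p * y, mul_mem (WittRGD.nZ_mem hA _ _) hy, ((mono_nZ hp i).mul hm).congr fun x => ?_⟩
    obtain ⟨j, s⟩ := x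
    unfold piS
    by_cases h1 : j ∈ S
    · have h2 : j ≠ i := fun h => hi (h ▸ h1)
      simp [h1, h2]
    · by_cases h2 : j = i
      · subst h2
        simp [h1]
      · simp [h1, h2]

end Cfsg.Agent.H156.SqTor
end

-- part: H156/SqPSp
section
/-!
`PSp_{2m}(F)`, `|F| ≥ 9`, is the square of a conjugacy class (S2523, task 268).
-/

set_option autoImplicit false
set_option linter.unusedSectionVars false

namespace Cfsg.Agent.H156.SqPSp

open CoxeterSystem Cfsg.Agent.ChevalleyStructure.CoxeterGeom Cfsg.Agent.Tits.Roots Cfsg.Agent.Tits.Core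
  Cfsg.Agent.Nodes.Reps Cfsg.Agent.Nodes.BNOf Cfsg.Agent.Nodes.StabComb
  Cfsg.Agent.Nodes.RGDLib Cfsg.Agent.Nodes.Bruhat Cfsg.Agent.Nodes.OppDec Cfsg.Agent.Nodes.LeviDec
open Cfsg.Agent.Nodes
open Cfsg.Agent.Nodes.TypeC
open Cfsg.Agent.TitsThree.Siegel Cfsg.Agent.TitsThree.WittFrame Cfsg.Agent.TitsThree.WittWeyl
open Cfsg.Agent.Nodes.WittRoot (XG ZG PG PG_ne PG_self Amb Mono)
open Cfsg.Agent.Nodes.WittRGD (Tor b_ne_zero)
open Cfsg.Agent.H162.GaussSL Cfsg.Agent.H162.GaussReg Cfsg.Agent.H162.GaussLevi Cfsg.Agent.H162.GaussMain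
open Cfsg.Agent.H156.SqPhi Cfsg.Agent.H156.SqBlk Cfsg.Agent.H156.SqTor Cfsg.Agent.H156.SqFix
open Cfsg.Agent.TitsThree.SpIdent
open Cfsg.Agent.OddHalf.NI.Mult
open Cfsg.Agent.OddHalf.NI

/-- an element whose square is not one -/
theorem exists_unit {F : Type*} [Field F] [Fintype F] (hF : 9 ≤ Fintype.card F) : ∃ a : Fˣ, a * a ≠ 1 := by
  classical
  obtain ⟨g, hg⟩ := IsCyclic.exists_generator (α := Fˣ)
  refine ⟨g, fun h => ?_⟩
  have h1 : orderOf g = Nat.card Fˣ := orderOf_eq_card_of_forall_mem_zpowers hg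
  have h2 : orderOf g ≤ 2 := orderOf_le_of_pow_eq_one (by norm_num) (by rw [pow_two, h])
  rw [h1, Nat.card_eq_fintype_card, Fintype.card_units] at h2
  omega

theorem lam_mul_self {F : Type*} [Field F] {N : ℕ} {a : Fˣ} (ha : a * a ≠ 1) (x y : Fin N × Bool) (hxy : x.2 = y.2) :
    lam (fun _ : Fin N => a) x * lam (fun _ : Fin N => a) y ≠ 1 := by
  have h1 : (a : F) * a ≠ 1 := fun h => ha (Units.ext h)
  unfold lam
  rw [hxy]
  split_ifs
  · exact h1
  · intro h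
    apply ha
    apply Units.ext
    rw [Units.val_mul, Units.val_one]
    have h2 : ((a⁻¹ : Fˣ) : F) * ((a⁻¹ : Fˣ) : F) = 1 := h
    rw [Units.val_inv_eq_inv_val, ← mul_inv, inv_eq_one] at h2
    exact h2

theorem le_mk {F : Type*} [Field F] [Fintype F] (hF : 9 ≤ Fintype.card F) : (4 : Cardinal) ≤ Cardinal.mk F := by
  rw [Cardinal.mk_fintype]
  exact_mod_cast (by omega : 4 ≤ Fintype.card F)

/-- **`PSp_{2m}(F)` is the square of a conjugacy class.** -/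
theorem square_psp {F : Type*} [Field F] [Fintype F] (hF : 9 ≤ Fintype.card F) (m : ℕ) (hm : 2 ≤ m) :
    ∃ c : Cfsg.PSp m F, ∀ g, ∃ x y, g = (x * c * x⁻¹) * (y * c * y⁻¹) := by
  obtain ⟨k, rfl⟩ : ∃ k, m = k + 2 := ⟨m - 2, by omega⟩
  obtain ⟨p, hp⟩ := CharP.exists F
  have hpp : Fact p.Prime := ⟨CharP.char_is_prime F p⟩
  have : Finite (CoxeterMatrix.B (k + 2)).Group := TypeC.finite_W (CoxeterMatrix.B (k + 2)).toCoxeterSystem
  have : Finite ((Fin (k + 2) ⊕ Fin (k + 2) → F) ≃ₗ[F] (Fin (k + 2) ⊕ Fin (k + 2) → F)) :=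
    Finite.of_injective (fun g : (Fin (k + 2) ⊕ Fin (k + 2) → F) ≃ₗ[F] (Fin (k + 2) ⊕ Fin (k + 2) → F) =>
      (g : (Fin (k + 2) ⊕ Fin (k + 2) → F) → (Fin (k + 2) ⊕ Fin (k + 2) → F))) DFunLike.coe_injective
  have hA : Amb (frame (k + 2) F) (isos (form (k + 2) F)) := WittU.amb_Sp
  have hAT := WittAll.AmbT.of_amb hA p
  have hσ : ∀ c, (form (k + 2) F).σ c = c := fun c => rfl
  have R := rgd_restrict (WittAll.rgdC hAT (p0 := adm (1 : F)) one_ne_zero
    (CoxeterMatrix.B (k + 2)).toCoxeterSystem) (isos (form (k + 2) F)) (fun x _ => hA.rg_le x)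
    (fun i => WittAll.nn_mem hAT (adm (1 : F)) i)
  have hG1 : G1 (CoxeterMatrix.B (k + 2)).toCoxeterSystem (isCartan (k + 2))
      (fun x => (WittRoot.rg (frame (k + 2) F) x).subgroupOf (isos (form (k + 2) F))) = ⊤ := by
    apply SpClosed.gen (by omega)
    · intro i
      exact X_le_G1 (X := fun x => (WittRoot.rg (frame (k + 2) F) x).subgroupOf (isos (form (k + 2) F)))
        (isRoot_sr _ _ i)
    · intro i
      exact X_le_G1 (X := fun x => (WittRoot.rg (frame (k + 2) F) x).subgroupOf (isos (form (k + 2) F)))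
        (isRoot_sr _ _ i).neg
  have C := WittCoord.coord (SpClosed.lf (F := F) (m := k + 2)) hA
  have hconn := Chart.Ty.irrC (k + 2) (by omega)
  obtain ⟨a, ha⟩ := exists_unit hF
  have hsimp : IsSimpleGroup (Cfsg.PSp (k + 2) F) := Cfsg.Agent.S0270.result (k + 2) (by omega) fun _ => by omega
  have D := blkTor (cs := (CoxeterMatrix.B (k + 2)).toCoxeterSystem) (h := isCartan (k + 2))
    (rg := WittRoot.rg (frame (k + 2) F)) (k := k) hσ hA le_rfl
    (fun i j hij => hJ1C le_rfl i j hij) (fun r hr => hJ2C le_rfl hr) (χ := fun _ => a)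
    (isIso_Phi (frame (k + 2) F) _ hσ _) (a := a) (fun _ => rfl)
    (noFixC hσ (isIso_Phi (frame (k + 2) F) _ hσ _) hA.iso (tor_apply _ _) (fun w hw => tor_V0 _ _ hw)
      (fun x y hxy h => lam_mul_self ha x y (by
        by_contra h1
        exact h ⟨h1, x.1.2, y.1.2⟩))
      (fun x q _ hc => by
        have h1 : q.w = 0 := q.ok
        have h2 : q.c = 0 := by
          by_contra h2
          exact lam_mul_self ha x x rfl (mul_right_cancel₀ h2 (by rw [hc, one_mul]))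
        exact Frame.Adm.ext h1 h2))
    (fun d => ⟨fun i => if i = 0 then d else 1, isIso_Phi (frame (k + 2) F) _ hσ _, fun i => rfl⟩)
    ⟨Finset.univ, fun _ => Finset.mem_univ _, fun j hj => absurd (Finset.mem_univ j) hj,
      exists_monoZ hA (p := adm (1 : F)) one_ne_zero Finset.univ⟩
  exact square R (toPSp (m := k + 2) (F := F)) toPSp_surjective
    (WittAll.ker_le_center (TitsThree.KInstSp.model (k + 2) F)) fun g hg => main R hG1 C hconn (le_mk hF) D hg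

end Cfsg.Agent.H156.SqPSp
end
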